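import Cfsg.Agent.SD4.CSb

/-!
# Standard `³D₄(2ⁿ)`, split case: the centraliser of the diagonal root involution
-/

set_option autoImplicit false
set_option linter.unusedSectionVars false

namespace Cfsg.Lib.SD4

open Subgroup Cfsg.Lib.Trans Cfsg.Lib.Gold Cfsg.Lib.SG2
open Cfsg.Lib.SG2.CSx (com_of mem_Cs' mem_C1' dec uniq comm_mul comm_left comm_right comm_mem_left
  comm_mem_right conj_comm cj_rt cj_UU stab onto)
open scoped commutatorElement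

namespace CSy

variable {G : Type*} {E : Type} [Group G] [Finite G] [Field E] [Finite E] {σ : E ≃+* E}
  {x : ZMod 12 → E → G} {t : G} {X : Subgroup G} {y z : ZMod 12 → E → G}

variable (h : FS σ x t y z X)
include h

theorem z0_mem : x 3 1 ∈ rt y 3 ⊔ rt z 3 := by
  rw [h.res]; exact mul_mem (mem_sup_left (x_mem_rt 3 1)) (mem_sup_right (x_mem_rt 3 1))

theorem P_le_Z1 : PA y ⊔ PA z ≤ X ⊓ C1 (x 3 1) :=
  le_inf (P_le_X h) ((le_Cs_comm.1 (R_le_Cs h)).trans (Cs_le_C1 (z0_mem h)))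

theorem syl_Z1 : IsSylowIn 2 (UU y ⊔ UU z) (X ⊓ C1 (x 3 1)) :=
  h.syl.mono ((U_le_P h).trans (P_le_Z1 h)) inf_le_left

theorem fix_z1 {n : G} (hn : n ∈ X ⊓ C1 (x 3 1)) (hM : n ∈ Ns (LL y ⊔ LL z)) :
    Commute n (y 3 1) := by
  obtain ⟨n1, n2⟩ := h.nsw ⟨hn.1, hM⟩
  have e : n * y 3 1 * n⁻¹ * (n * z 3 1 * n⁻¹) = y 3 1 * z 3 1 := by
    rw [conj_mul', ← h.res, (mem_C1'.1 hn.2).eq, mul_inv_cancel_right]
  exact Comp.comm_of_conj_eq (un h (mem_normalizer_conj n1 (x_mem_LL 3 1)) (x_mem_LL 3 1)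
    (mem_normalizer_conj n2 (x_mem_LL 3 1)) (x_mem_LL 3 1) e).1

theorem ns_P1 {n : G} (hn : n ∈ X ⊓ C1 (x 3 1)) (hM : n ∈ Ns (LL y ⊔ LL z)) : n ∈ Ns (PA y) := by
  rw [← h.sy.cz]
  exact mem_Ns_inf (h.nsw ⟨hn.1, hM⟩).1 (mem_Ns_C1 (fix_z1 h hn hM).eq)

theorem ns_P {n : G} (hn : n ∈ X ⊓ C1 (x 3 1)) (hM : n ∈ Ns (LL y ⊔ LL z)) :
    n ∈ Ns (PA y ⊔ PA z) :=
  mem_Ns_sup (ns_P1 h hn hM) (ns_P1 h.symm hn (by rw [sup_comm]; exact hM))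

theorem gam {a b c d e : G} (ha : a ∈ UU y ⊔ UU z) (hb : b ∈ UU y ⊔ UU z) (hc : c ∈ UU y ⊔ UU z)
    (hd : d ∈ UU y ⊔ UU z) (he : e ∈ UU y ⊔ UU z) : ⁅⁅⁅⁅a, b⁆, c⁆, d⁆, e⁆ ∈ rt y 3 ⊔ rt z 3 := by
  obtain ⟨a1, ha1, a2, ha2, rfl⟩ := decU h ha
  obtain ⟨b1, hb1, b2, hb2, rfl⟩ := decU h hb
  obtain ⟨c1, hc1, c2, hc2, rfl⟩ := decU h hc
  obtain ⟨d1, hd1, d2, hd2, rfl⟩ := decU h hd
  obtain ⟨e1, he1, e2, he2, rfl⟩ := decU h he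
  have cm : ∀ {a1 a2 b1 b2 : G}, a1 ∈ UU y → a2 ∈ UU z → b1 ∈ UU y → b2 ∈ UU z →
      ⁅a1 * a2, b1 * b2⁆ = ⁅a1, b1⁆ * ⁅a2, b2⁆ := fun h1 h2 h3 h4 =>
    comm_mul (com h (UU_le_LL h1) (UU_le_LL h4)) (com h (UU_le_LL h3) (UU_le_LL h2)).symm
      (com h (UU_le_LL h1) (UU_le_LL h2)) (com h (UU_le_LL h3) (UU_le_LL h4))
  have m1 := comm_mem_left ha1 (le_normalizer hb1)
  have m2 := comm_mem_left ha2 (le_normalizer hb2)
  have m3 := comm_mem_left m1 (le_normalizer hc1)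
  have m4 := comm_mem_left m2 (le_normalizer hc2)
  rw [cm ha1 ha2 hb1 hb2, cm m1 m2 hc1 hc2, cm m3 m4 hd1 hd2,
    cm (comm_mem_left m3 (le_normalizer hd1)) (comm_mem_left m4 (le_normalizer hd2)) he1 he2]
  exact mul_mem (mem_sup_left (h.sy.gam5 ha1 hb1 hc1 hd1 he1))
    (mem_sup_right (h.sz.gam5 ha2 hb2 hc2 hd2 he2))

theorem sc_one {r g a b : G} (hr : r ∈ rt y 3 ⊔ rt z 3) (hg : g ∈ X ⊓ C1 (x 3 1))
    (ha : a ∈ UU y) (hb : b ∈ rt z 3) (e : g * r * g⁻¹ = a * b) (a2 : a * a = 1) :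
    a ∈ rt y 3 := by
  by_contra hR
  set Z := X ⊓ C1 (x 3 1) with hZ
  have hUZ : UU y ⊔ UU z ≤ Z := (U_le_P h).trans (P_le_Z1 h)
  have hsyl : IsSylowIn 2 (UU y ⊔ UU z) (Z ⊓ C1 r) :=
    (syl_Z1 h).mono (le_inf hUZ ((le_Cs_comm.1 (zpowers_le.2 (R_mem_Z h hr).2)).trans
      (Cs_zpowers r).le)) inf_le_left
  have hSU : UU z ⊔ rt y 3 ≤ UU y ⊔ UU z := sup_le le_sup_right (R_le_UU.trans le_sup_left)
  have hB : cj g⁻¹ (UU z ⊔ rt y 3) ≤ Z ⊓ C1 r := by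
    refine le_inf (cj_le_of_mem_of_le (inv_mem hg) (hSU.trans hUZ)) ?_
    rw [cj_inv_le_iff_le_cj, cj_C1, e]
    intro u hu
    refine mem_C1'.2 ((com_of (S_le_Cs h.symm hu) ha).mul_right ?_)
    exact (com_of (R_mem_Z h (mem_sup_right hb)).2 (hSU hu)).symm
  obtain ⟨k, hk, hle⟩ := hsyl.exists_cj_le (isPGroup_cj ((two_U h).to_le hSU) g⁻¹) hB
  rw [cj_cj] at hle
  set j := k * g⁻¹ with hj
  have hjZ : j ∈ Z := mul_mem hk.1 (inv_mem hg)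
  have ej : j * (a * b) * j⁻¹ = r := by
    rw [← e, hj]
    calc k * g⁻¹ * (g * r * g⁻¹) * (k * g⁻¹)⁻¹ = k * r * k⁻¹ := by group
      _ = r := Comp.conj_eq_of_comm (mem_C1'.1 hk.2).eq
  have h2 : j * z 3 1 * j⁻¹ ∈ rt y 3 ⊔ rt z 3 := by
    obtain ⟨c1, h1, c2, h2, c3, h3, c4, h4, c5, h5, ec⟩ := h.sz.gam5'
    rw [← ec, conj_comm, conj_comm, conj_comm, conj_comm]
    exact gam h (cj_le_iff.1 hle _ (mem_sup_left h1)) (cj_le_iff.1 hle _ (mem_sup_left h2))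
      (cj_le_iff.1 hle _ (mem_sup_left h3)) (cj_le_iff.1 hle _ (mem_sup_left h4))
      (cj_le_iff.1 hle _ (mem_sup_left h5))
  have h1 : j * y 3 1 * j⁻¹ ∈ rt y 3 ⊔ rt z 3 := by
    have : j * y 3 1 * j⁻¹ = x 3 1 * (j * z 3 1 * j⁻¹)⁻¹ := by
      rw [← Comp.conj_eq_of_comm (mem_C1'.1 hjZ.2).eq, h.res]; group
    rw [this]
    exact mul_mem (z0_mem h) (inv_mem h2)
  have hz1 : y 3 1 ∈ rt y 3 ⊔ rt z 3 := mem_sup_left (x_mem_rt 3 1)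
  have hn : ∀ n ∈ Z ⊓ Ns (UU y ⊔ UU z), Commute n (y 3 1) :=
    fun n hn => fix_z1 h hn.1 (h.Ns_UU hn.2)
  obtain ⟨n, hnm, en⟩ := burn_fus (syl_Z1 h) (R_mem_Z h hz1) hjZ (R_mem_Z h h1)
  rw [Comp.conj_eq_of_comm (hn n hnm).eq] at en
  obtain ⟨k1, hk1, ek⟩ := h.sy.conj_mul_R ha hR (a2 ▸ one_mem _) 1
  replace hk1 := QQ_le_UU hk1
  refine h.sy.ne (not_fuse (syl_Z1 h) (R_mem_Z h hr) (R_mem_Z h hz1) (h.sy.s.mul_self 3 1)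
    (mul_mem (mul_mem hjZ (hUZ (mem_sup_left hk1))) (inv_mem hjZ)) ?_ hn)
  have c1 := (com h (UU_le_LL hk1) (rt_le_LL 3 hb)).eq
  have c2 := (com h (x_mem_LL 3 (1 : E)) (rt_le_LL 3 hb)).eq
  conv_rhs => rw [en]
  rw [← ej]
  calc j * k1 * j⁻¹ * (j * (a * b) * j⁻¹) * (j * k1 * j⁻¹)⁻¹
      = j * (k1 * a * k1⁻¹ * (k1 * b) * k1⁻¹) * j⁻¹ := by group
    _ = j * (a * (y 3 1 * b)) * j⁻¹ := by rw [ek, c1]; group
    _ = _ := by rw [c2]; group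

theorem sc_R {r g : G} (hr : r ∈ rt y 3 ⊔ rt z 3) (hg : g ∈ X ⊓ C1 (x 3 1))
    (hu : g * r * g⁻¹ ∈ UU y ⊔ UU z) : g * r * g⁻¹ ∈ rt y 3 ⊔ rt z 3 := by
  obtain ⟨a, ha, b, hb, e⟩ := decU h hu
  have c := com h (UU_le_LL ha) (UU_le_LL hb)
  have e2 : a * a * (b * b) = 1 * 1 := by
    rw [mul_one, ← Comp.conj_sq (sq_R h hr) g, e]
    calc a * a * (b * b) = a * (a * b) * b := by group
      _ = a * (b * a) * b := by rw [c.eq]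
      _ = _ := by group
  obtain ⟨a2, b2⟩ := un h (UU_le_LL (mul_mem ha ha)) (one_mem _) (UU_le_LL (mul_mem hb hb))
    (one_mem _) e2
  rw [e]
  by_cases hbR : b ∈ rt z 3
  · exact mul_mem (mem_sup_left (sc_one h hr hg ha hbR e a2)) (mem_sup_right hbR)
  by_cases haR : a ∈ rt y 3
  · exact absurd (sc_one h.symm (by rw [sup_comm]; exact hr) hg hb haR (e.trans c.eq) b2) hbR
  exfalso
  have hUZ := (U_le_P h).trans (P_le_Z1 h)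
  obtain ⟨k1, hk1, e1⟩ := h.sy.conj_mul_R ha haR (a2 ▸ one_mem _) 1
  obtain ⟨k2, hk2, e2⟩ := h.sz.conj_mul_R hb hbR (b2 ▸ one_mem _) 1
  replace hk1 := QQ_le_UU hk1
  replace hk2 := QQ_le_UU hk2
  have hk : k1 * k2 ∈ X ⊓ C1 (x 3 1) := hUZ (mul_mem (mem_sup_left hk1) (mem_sup_right hk2))
  refine h.ne (not_fuse (syl_Z1 h) (R_mem_Z h hr) (R_mem_Z h (z0_mem h)) (h.s.mul_self 3 1)
    (mul_mem (mul_mem (inv_mem hg) hk) hg) ?_ fun n hn => mem_C1'.1 hn.1.2)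
  have c1 := (com h (UU_le_LL ha) (UU_le_LL hk2)).eq
  have c2 := (com h (UU_le_LL hk1) (mul_mem (UU_le_LL hb) (x_mem_LL 3 (1 : E)))).eq
  have c3 := (com h (x_mem_LL 3 (1 : E)) (UU_le_LL hb)).eq
  have c4 := (mem_C1'.1 hg.2).eq
  calc g⁻¹ * (k1 * k2) * g * r * (g⁻¹ * (k1 * k2) * g)⁻¹
      = g⁻¹ * (k1 * (k2 * (g * r * g⁻¹) * k2⁻¹) * k1⁻¹) * g := by group
    _ = g⁻¹ * (k1 * ((k2 * a) * b * k2⁻¹) * k1⁻¹) * g := by rw [e]; group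
    _ = g⁻¹ * (k1 * a * (k2 * b * k2⁻¹) * k1⁻¹) * g := by rw [← c1]; group
    _ = g⁻¹ * (k1 * a * k1⁻¹ * (k1 * (b * z 3 1)) * k1⁻¹) * g := by rw [e2]; group
    _ = g⁻¹ * (a * (y 3 1 * b) * z 3 1) * g := by rw [e1, c2]; group
    _ = g⁻¹ * (a * b * (y 3 1 * z 3 1)) * g := by rw [c3]; group
    _ = r * (g⁻¹ * (x 3 1 * g)) := by rw [← e, ← h.res]; group
    _ = _ := by rw [← c4]; group

theorem cent_P {κ : G} (hκ : ∀ p ∈ PA y, ⁅κ, p⁆ ∈ rt y 3 ⊔ rt z 3) : PA y ≤ C1 κ := by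
  rw [← h.sy.perf_PA, commutator_le]
  intro p hp q hq
  refine mem_C1'.2 (Commute.symm (Comp.comm_of_conj_eq ?_))
  have e : ∀ p, κ * p * κ⁻¹ = ⁅κ, p⁆ * p := fun p => by rw [commutatorElement_def]; group
  have cp := R_le_Cs h (hκ p hp)
  have cq := R_le_Cs h (hκ q hq)
  have hP : ∀ {p}, p ∈ PA y → p ∈ PA y ⊔ PA z := fun hp => mem_sup_left hp
  rw [conj_comm, e p, e q, comm_right ((com_of cp ((R_le_U h).trans (U_le_P h) (hκ q hq))).mul_right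
    (com_of cp (hP hq))) (com_of cp (hP hp)), ← commutatorElement_inv,
    comm_right (com_of cq (hP hp)) (com_of cq (hP hq)), commutatorElement_inv]

end CSy

open CSy in
theorem FS.C_z {G : Type*} {E : Type} [Group G] [Finite G] [Field E] [Finite E] {σ : E ≃+* E}
    {x : ZMod 12 → E → G} {t : G} {X : Subgroup G} {y z : ZMod 12 → E → G}
    (h : FS σ x t y z X) : X ⊓ C1 (x 3 1) ≤ Ns (LL y ⊔ LL z) := by
  obtain ⟨K, hRK, hKZ, hK, hv⟩ := gbq (syl_Z1 h) (D := ⊥) bot_le (R_le_U h)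
    (fun g _ => mem_Ns_iff.2 (cj_bot g))
    (fun a ha b hb => mem_bot.2 (commutatorElement_eq_one_iff_commute.2
      (com_of (R_le_Cs h ha) ((R_le_U h).trans (U_le_P h) hb))))
    (fun a ha g hg hb => sc_R h ha hg hb)
  have hKP : K ⊓ (PA y ⊔ PA z) ≤ rt y 3 ⊔ rt z 3 :=
    np2 h inf_le_right (le_Ns_inf ((P_le_Z1 h).trans hK) le_normalizer)
      fun v hv' v2 => hv v ⟨hv'.1.1, hv'.2⟩ (mem_bot.2 v2)
  have hO : Oc (X ⊓ C1 (x 3 1)) ≤ Cs (LL y ⊔ LL z) :=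
    ok h (mem_Ns_inf (t_mem_NsX h) (mem_Ns_C1 (h.tc 3 1).eq)) (P_le_Z1 h)
      fun n hn => ns_P h hn.1 hn.2
  refine (burnq (syl_Z1 h) (D := ⊥) bot_le (fun g _ => mem_Cs' fun a ha => ?_) hKZ hK
    (le_antisymm ((inf_le_inf_left K (U_le_P h)).trans hKP) (le_inf hRK (R_le_U h)))
    fun k hk a ha => ?_).trans (sup_le (hO.trans Cs_le_Ns) h.Ns_R)
  · rw [mem_bot.1 ha]; exact Commute.one_right g
  · have hc : ∀ p ∈ PA y ⊔ PA z, ⁅k, p⁆ ∈ rt y 3 ⊔ rt z 3 := fun p hp =>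
      hKP ⟨comm_mem_left hk.1 (hK (P_le_Z1 h hp)),
        comm_mem_right hp (ns_P h (hKZ hk.1) (h.Ns_R hk.2))⟩
    have : PA y ⊔ PA z ≤ C1 k :=
      sup_le (cent_P h fun p hp => hc p (mem_sup_left hp))
        (cent_P h.symm fun p hp => by rw [sup_comm]; exact hc p (mem_sup_right hp))
    exact mem_bot.2 (commutatorElement_eq_one_iff_commute.2
      (mem_C1'.1 (this ((R_le_U h).trans (U_le_P h) ha))).symm)

end Cfsg.Lib.SD4
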